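import Groth.Agent.RelPC.More

/-!
Presentations of finite algebras: pseudo-coherence over the polynomial ring and over the base agree.
-/

set_option autoImplicit false
set_option linter.style.haveILetI false
set_option backward.isDefEq.respectTransparency false
universe u

namespace Groth.Agent.RelPCFin

open CategoryTheory Groth.Agent.RelPC

attribute [local instance] HasDerivedCategory.standard

/-- If `A` is finite over `P`, pseudo-coherence over `P[y_1, …, y_k]` is pseudo-coherence over `P`. -/
theorem pc_mvPoly_iff : ∀ (k : ℕ) {P A : Type u} [CommRing P] [CommRing A]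
    (θ : MvPolynomial (Fin k) P →+* A), (θ.comp MvPolynomial.C).Finite → ∀ (m : ℤ) (M : Dual.D A),
    DRing.IsPseudoCoherent (MvPolynomial (Fin k) P) m ((DRing.restrictD θ).obj M) ↔
      DRing.IsPseudoCoherent P m ((DRing.restrictD (θ.comp MvPolynomial.C)).obj M) := by
  intro k
  induction k with
  | zero =>
    intro P A _ _ θ _ m M
    exact ((pcHom_of_bijective ⟨MvPolynomial.C_injective _ _, MvPolynomial.C_surjective _⟩).pc_comp_iff θ m M).symm
  | succ k ih =>
    intro P A _ _ θ hfin m M
    let σ : Polynomial (MvPolynomial (Fin k) P) ≃+* MvPolynomial (Fin (k + 1)) P :=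
      (MvPolynomial.finSuccEquiv P k).toRingEquiv.symm
    let θ₁ : Polynomial (MvPolynomial (Fin k) P) →+* A := θ.comp σ.toRingHom
    let θ₀ : MvPolynomial (Fin k) P →+* A := θ₁.comp Polynomial.C
    have hC : θ₀.comp MvPolynomial.C = θ.comp MvPolynomial.C := by
      refine RingHom.ext fun r => congrArg θ ?_
      show σ (Polynomial.C (MvPolynomial.C r)) = MvPolynomial.C r
      rw [RingEquiv.symm_apply_eq]
      exact ((MvPolynomial.finSuccEquiv P k).commutes r).symm
    have hfin₀ : θ₀.Finite := RingHom.Finite.of_comp_finite (f := MvPolynomial.C) (hC ▸ hfin)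
    obtain ⟨g, hg, hg0⟩ := hfin₀.to_isIntegral (θ₁ Polynomial.X)
    have hθg : θ₁ g = 0 := by
      have h1 : θ₁ = Polynomial.eval₂RingHom θ₀ (θ₁ Polynomial.X) :=
        Polynomial.ringHom_ext (fun a => by simp [θ₀]) (by simp)
      rw [h1]
      exact hg0
    let θ₂ : AdjoinRoot g →+* A := Ideal.Quotient.lift _ θ₁ fun p hp => by
      obtain ⟨c, rfl⟩ := Ideal.mem_span_singleton.1 hp
      rw [map_mul, hθg, zero_mul]
    haveI : Module.Finite (MvPolynomial (Fin k) P) (AdjoinRoot g) := hg.finite_adjoinRoot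
    haveI : Module.Free (MvPolynomial (Fin k) P) (AdjoinRoot g) := hg.free_adjoinRoot
    have hq : PCHom (algebraMap (MvPolynomial (Fin k) P) (AdjoinRoot g)) := pcHom_of_finite_free
    have e₁ : θ₂.comp (AdjoinRoot.mk g) = θ₁ := RingHom.ext fun p => rfl
    have e₂ : θ₂.comp (algebraMap (MvPolynomial (Fin k) P) (AdjoinRoot g)) = θ₀ := RingHom.ext fun p => rfl
    rw [← hC, ← ih θ₀ (hC ▸ hfin) m M, ← e₂, hq.pc_comp_iff, ← (pcHom_adjoinRoot_mk hg).pc_comp_iff θ₂, e₁]
    exact ((pcHom_of_ringEquiv σ).pc_comp_iff θ m M).symm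

end Groth.Agent.RelPCFin
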