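import Groth.Agent.RelPCFin.Alg
import Groth.Agent.RelPCS.Comp
import Groth.Agent.DQPush.FinitePC

/-!
Relative pseudo-coherence and direct image along finite morphisms.
-/

set_option autoImplicit false
set_option backward.isDefEq.respectTransparency false
set_option backward.isDefEq.respectTransparency.types false
set_option linter.style.haveILetI false
set_option maxHeartbeats 1000000

universe u

open CategoryTheory Limits AlgebraicGeometry TopologicalSpace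

attribute [local instance] HasDerivedCategory.standard

namespace Groth.Agent.RelPCFin

open Groth.Agent.DQCoh Groth.Agent.RelPCS

variable {X Y S : Scheme.{u}}

/-- the chart test through the module of sections -/
theorem qpc_iff_module {A P : Type u} [CommRing A] [CommRing P] {m : ℤ} {E : DCoh.D X}
    {j : Spec (CommRingCat.of A) ⟶ X} [IsOpenImmersion j] {θ : P →+* A} (hθ : Function.Surjective θ)
    (M : Dual.D A) (e : (DCoh.tildeD (CommRingCat.of A)).obj M ≅ (RD j).obj E) :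
    QPC m E j θ ↔ DRing.IsPseudoCoherent P m ((DRing.restrictD θ).obj M) := by
  haveI := closedImm_sp hθ
  let e' : (DCoh.tildeD (CommRingCat.of P)).obj ((DRing.restrictD θ).obj M) ≅ (PD (sp θ)).obj ((RD j).obj E) :=
    ((pdTildeIso θ).app M).symm ≪≫ (PD (sp θ)).mapIso e
  rw [← pseudoCoherent_tilde_iff]
  exact ⟨fun ⟨_, h⟩ => pc_of_iso e'.symm h, fun h => ⟨hθ, pc_of_iso e' h⟩⟩

variable (π : X ⟶ Y) (q : Y ⟶ S)

/-- one pair of affines -/
theorem qa_iff [IsFinite π] [LocallyOfFiniteType q] [DCoh.HasRpush π] (m : ℤ) (E : DCoh.D X)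
    (hE : DCoh.IsQCohD E) {V : Y.Opens} (hV : IsAffineOpen V) {W : S.Opens} (hW : IsAffineOpen W)
    (hVW : V ≤ q ⁻¹ᵁ W) :
    QA (π ≫ q) m E (π ⁻¹ᵁ V) W ↔ QA q m ((DCoh.Rpush π).obj E) V W := by
  have hU := hV.preimage π
  obtain ⟨n, ψ, hψ⟩ := exists_chart hV hW hVW
  obtain ⟨k, φ, hφ⟩ := exists_chart (f := π) hU hV le_rfl
  obtain ⟨θ, e, hθ, hθe⟩ := exists_chart_comp le_rfl hVW hφ hψ
  let hQ : π ⁻¹ᵁ V ≤ (π ≫ q) ⁻¹ᵁ W := π.preimage_mono hVW
  have hq : DCoh.IsQCohD ((RD hU.fromSpec).obj E) := fun i =>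
    QC.isQCoh_of_iso ((homologyDerIso (Scheme.Modules.restrictFunctor hU.fromSpec) i).app E).symm
      (QC.isQCoh_restrict hU.fromSpec (hE i))
  obtain ⟨M, ⟨eM⟩⟩ := RelPCS.exists_tilde_rep ((RD hU.fromSpec).obj E) hq
  let χ : Γ(Y, V) →+* Γ(X, π ⁻¹ᵁ V) := (π.app V).hom
  let g := Spec.map (CommRingCat.ofHom χ)
  haveI := DerPush.hasRpush_sch g
  have w : g ≫ hV.fromSpec = hU.fromSpec ≫ π := by
    have := IsAffineOpen.SpecMap_appLE_fromSpec π hV hU le_rfl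
    rwa [← Scheme.Hom.app_eq_appLE] at this
  have hr : hU.fromSpec.opensRange = π ⁻¹ᵁ hV.fromSpec.opensRange := by
    rw [hU.opensRange_fromSpec, hV.opensRange_fromSpec]
  let eR : (DCoh.tildeD (CommRingCat.of Γ(Y, V))).obj ((DRing.restrictD χ).obj M) ≅
      (RD hV.fromSpec).obj ((DCoh.Rpush π).obj E) :=
    ((DQPush.rpushTildeIso χ).app M).symm ≪≫ (DCoh.Rpush g).mapIso eM ≪≫
      ((DQPush.rpushBCIso π g hV.fromSpec hU.fromSpec w hr).app E).symm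
  have h1 : QA (π ≫ q) m E (π ⁻¹ᵁ V) W ↔ QPC m E hU.fromSpec θ :=
    ⟨fun h => qpc_of_qa hU hQ h hθ, fun h => qa_of_qpc hU hQ hθ h⟩
  have h2 : QA q m ((DCoh.Rpush π).obj E) V W ↔ QPC m ((DCoh.Rpush π).obj E) hV.fromSpec ψ :=
    ⟨fun h => qpc_of_qa hV hVW h hψ, fun h => qa_of_qpc hV hVW hψ h⟩
  rw [h1, h2, qpc_iff_module hθ.1 M eM, qpc_iff_module hψ.1 _ eR, hθe]
  let θ₀ : MvPolynomial (Fin k) (MvPolynomial (Fin n) Γ(S, W)) →+* Γ(X, π ⁻¹ᵁ V) :=
    φ.comp (MvPolynomial.map ψ)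
  have hC : θ₀.comp MvPolynomial.C = χ.comp ψ := by
    rw [RingHom.comp_assoc, map_C_comp, ← RingHom.comp_assoc, hφ.2]
    simp [χ, Scheme.Hom.app_eq_appLE]
  have hfin : (θ₀.comp MvPolynomial.C).Finite := by
    rw [hC]
    exact (IsFinite.finite_app (f := π) _ hV).comp (RingHom.Finite.of_surjective ψ hψ.1)
  refine ((RelPC.pcHom_of_ringEquiv e).pc_comp_iff θ₀ m M).trans ((pc_mvPoly_iff k θ₀ hfin m M).trans ?_)
  rw [hC]
  exact RelPC.pc_comp_iff ψ χ m M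

/-- **Finite direct images.** -/
theorem rel_iff_rpush [IsFinite π] [LocallyOfFiniteType q] [DCoh.HasRpush π] (m : ℤ) (E : DCoh.D X)
    (hE : DCoh.IsQCohD E) :
    DerSch.IsPseudoCoherentRel (π ≫ q) m E ↔ DerSch.IsPseudoCoherentRel q m ((DCoh.Rpush π).obj E) := by
  constructor
  · intro h
    have hq := (rel_iff_qa m E).1 h
    refine (rel_iff_qa m _).2 fun V W hVW => ?_
    exact (qa_iff π q m E hE V.2 W.2 hVW).1 (hq ⟨_, V.2.preimage π⟩ W) hVW
  · intro h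
    have hq := (rel_iff_qa m _).1 h
    refine ⟨inferInstance, Set.univ, by simpa using iSup_affineOpens_eq_top S, fun W _ => ?_⟩
    refine ⟨{U | ∃ V : Y.affineOpens, (U : X.Opens) = π ⁻¹ᵁ (V : Y.Opens) ∧
      (V : Y.Opens) ≤ q ⁻¹ᵁ (W : S.Opens)}, ?_, ?_⟩
    · refine le_antisymm (iSup₂_le fun U ⟨V, hUV, hVW⟩ => hUV.le.trans (π.preimage_mono hVW)) fun x hx => ?_
      obtain ⟨_, ⟨V, hV, rfl⟩, hxV, hle⟩ :=
        Y.isBasis_affineOpens.exists_subset_of_mem_open (show π x ∈ q ⁻¹ᵁ (W : S.Opens) from hx) (q ⁻¹ᵁ (W : S.Opens)).isOpen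
      exact Opens.mem_iSup.2 ⟨⟨_, hV.preimage π⟩, Opens.mem_iSup.2 ⟨⟨⟨V, hV⟩, rfl, hle⟩, hxV⟩⟩
    · rintro ⟨U, hU⟩ ⟨V, hUV, hVW⟩ hle
      obtain rfl : U = π ⁻¹ᵁ (V : Y.Opens) := hUV
      exact (qa_iff π q m E hE V.2 W.2 hVW).2 (hq V W) hle

end Groth.Agent.RelPCFin
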